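import Cfsg.Agent.H520.FC.CB
import Cfsg.Agent.KFacts.RgdAutFacts

/-!
# S2464, `F₄(q)`: long root elements have centralizers of index prime to `p` (helper520)
-/

set_option autoImplicit false
set_option linter.unusedSectionVars false

namespace Cfsg.Agent.H520.FC

open Subgroup CoxeterSystem Cfsg.Agent.ChevalleyStructure.CoxeterGeom Cfsg.Agent.Tits.Core
  Cfsg.Agent.Tits.Exchange Cfsg.Agent.Nodes.Reps Cfsg.Agent.Nodes.BNOf Cfsg.Agent.Nodes.StabComb
  Cfsg.Agent.Nodes.Bruhat Cfsg.Agent.Nodes.OppDec Cfsg.Agent.Nodes.LeviDec Cfsg.Agent.Nodes.NormX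
  Cfsg.Agent.Nodes.Coroot Cfsg.Agent.Nodes.RGDChev Cfsg.Agent.KFacts.RgdPar Cfsg.Agent.KFacts.RgdTI
  Cfsg.Agent.KFacts.RgdCent Cfsg.Agent.KFacts.RgdChevCoord Cfsg.Agent.Nodes.ChevCls
  Cfsg.Agent.OddHalf.NI.ModelChev Cfsg.Agent.H225.PPow Cfsg.Agent.Tits.Roots
open Cfsg.Lie Cfsg.Agent.ChevalleyStructure Cfsg.Agent.ChevalleyStructure.Elts
  Cfsg.Agent.ChevalleyStructure.RootVec Cfsg.Agent.ChevalleyStructure.NPerm
  Cfsg.Agent.ChevalleyStructure.CoxeterGeomTypes
open Cfsg.Agent.H701.F43.Cent (hF cF VV MM J3 comm_theta)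

universe u

variable {K : Type u} [Field K]

theorem U_le : RGD.Sup (XX chevF4 4 K) (RGD.Pos cF hF.isCartan) ≤ VV K ⊔ MM K := by
  refine RGD.Sup_le fun x hx => ?_
  rcases mem_PosJ_or_NotJ J3 hx.1 hx.2 with h1 | h1
  · exact le_trans (RGD.le_Sup (PosJ_subset J3 h1)) le_sup_right
  · exact le_trans (RGD.le_Sup h1) le_sup_left

/-- long root elements -/
theorem index_of_lng [Finite K] (p : ℕ) [Fact p.Prime] [CharP K p] {g : ↥(chevF4.group K)} (hl : Lng g) :
    ¬ p ∣ (centralizer ({g} : Set ↥(chevF4.group K))).index := by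
  have hW := finite_W hF cF
  have hfin : Finite ↥(chevF4.group K) := inferInstance
  have hG := KFacts.RgdFilt.GG_eq_top (T := TT chevF4 K) (G1_eq_top hF (K := K) cF)
  have R := rgd (K := K) hF cF p
  obtain ⟨a, ha⟩ := hl
  obtain ⟨S, hS⟩ := KFacts.RgdAutFacts.exists_sylow R hG
  have h1 : (S : Subgroup ↥(chevF4.group K)) ≤ centralizer {a * g * a⁻¹} := by
    rw [hS]
    intro t ht
    rw [mem_centralizer_singleton_iff]
    exact comm_theta (U_le ht) ha
  have h2 : (centralizer ({g} : Set ↥(chevF4.group K))).index = (centralizer ({a * g * a⁻¹} : Set ↥(chevF4.group K))).index := by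
    have h3 := card_cent_conj a (a * g * a⁻¹)
    have h4 : a⁻¹ * (a * g * a⁻¹) * a = g := by group
    rw [h4] at h3
    have h5 := (centralizer ({g} : Set ↥(chevF4.group K))).index_mul_card
    have h6 := (centralizer ({a * g * a⁻¹} : Set ↥(chevF4.group K))).index_mul_card
    rw [← h6, h3] at h5
    exact Nat.eq_of_mul_eq_mul_right Nat.card_pos h5
  rw [h2]
  intro hcon
  exact S.not_dvd_index (hcon.trans (index_dvd_of_le h1))

end Cfsg.Agent.H520.FC
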