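import Cfsg.Agent.H520.FC.Fin1
import Cfsg.Agent.H520.FC.Idx
import Cfsg.Agent.H962.FC.Mixed
import Cfsg.Agent.H374.TC.CuMain

/-!
# S2464, `F₄(q)`, `q = 5, 7, 17`: **the bound for `|C(g)|`** (helper520)
-/

set_option autoImplicit false
set_option linter.unusedSectionVars false

namespace Cfsg.Agent.H520.FC

open Subgroup Cfsg.Lie

universe u

variable {K : Type u} [Field K]

/-- the bound with the factor `c` -/
theorem cbc {p : ℕ} [Fact p.Prime] [CharP K p] (hq : Nat.card K = 5 ∨ Nat.card K = 7 ∨ Nat.card K = 17)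
    {c : ℕ} (hc : c = 2 ∨ c = 10 ∧ Nat.card K = 17) {g : ↥(chevF4.group K)} (hg : p ∣ orderOf g) (hl : ¬ Lng g) :
    c * Nat.card ↥(centralizer ({g} : Set ↥(chevF4.group K))) < d2 (Nat.card K) ^ 2 := by
  have hfin : Finite K := Nat.finite_of_card_ne_zero (by omega)
  exact cb_of3 hq hc (Cfsg.Agent.H962.FC.mixed10_of hq Cfsg.Agent.H374.TC.Cu.c16) hg hl

/-- **The bound.** -/
theorem cb {p : ℕ} [Fact p.Prime] [CharP K p] (hq : Nat.card K = 5 ∨ Nat.card K = 7 ∨ Nat.card K = 17) : CB K p :=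
  fun _ hg hl => cbc hq (Or.inl rfl) hg hl

/-- the bound for `q = 17` -/
theorem cb17 {p : ℕ} [Fact p.Prime] [CharP K p] (hq : Nat.card K = 17) {g : ↥(chevF4.group K)} (hg : p ∣ orderOf g)
    (hl : ¬ Lng g) : 10 * Nat.card ↥(centralizer ({g} : Set ↥(chevF4.group K))) < d2 (Nat.card K) ^ 2 :=
  cbc (Or.inr (Or.inr hq)) (Or.inr ⟨rfl, hq⟩) hg hl

/-- the bound, for `g` whose class has order divisible by `p` -/
theorem hcb {p : ℕ} [Fact p.Prime] [CharP K p] (hq : Nat.card K = 5 ∨ Nat.card K = 7 ∨ Nat.card K = 17)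
    {c : ℕ} (hc : c = 2 ∨ c = 10 ∧ Nat.card K = 17) (g : ↥(chevF4.group K)) (hg : p ∣ orderOf g)
    (hi : p ∣ (centralizer ({g} : Set ↥(chevF4.group K))).index) :
    c * Nat.card ↥(centralizer ({g} : Set ↥(chevF4.group K))) < d2 (Nat.card K) ^ 2 := by
  have hfin : Finite K := Nat.finite_of_card_ne_zero (by omega)
  exact cbc hq hc hg fun hl => index_of_lng p hl hi

end Cfsg.Agent.H520.FC
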