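import Cfsg.Agent.H363.IFO.Rgd

/-!
# Leading root element of a unipotent element; `|C(u)| (q - 1) p ≤ |P|` (helper520, S2464)

* `exists_lead` : `u ∈ U`, `u ≠ 1`: `u = x * n`, `1 ≠ x ∈ X b`, `n ∈ ⟨X (S \ {b})⟩`, `S` closed upwards, `b` of least height in `S`;
* `card_cent_le` : the torus and `U` move `u` through `(|F| - 1) p` elements if `u` is not central in `U`.
-/

set_option autoImplicit false
set_option linter.unusedSectionVars false

namespace Cfsg.Agent.H520.FC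

open Subgroup CoxeterSystem Cfsg.Agent.ChevalleyStructure.CoxeterGeom Cfsg.Agent.Tits.Core
  Cfsg.Agent.Nodes.Reps Cfsg.Agent.Nodes.BNOf Cfsg.Agent.Nodes
  Cfsg.Agent.KFacts.RgdFilt Cfsg.Agent.KFacts.RgdBorelTits Cfsg.Agent.OddHalf.D4.StarLoc Cfsg.Agent.H363.IFO
open Cfsg.Agent.Tits.Roots hiding ht
open Cfsg.Agent.OddHalf.D4.LineRgd (ht)
open scoped commutatorElement

universe v

/-- counting the conjugates of `u` by the elements `f i` -/
theorem count {ι Y : Type*} [Group Y] [Finite Y] (P : Subgroup Y) (u : Y) (hC : centralizer {u} ≤ P) (f : ι → Y)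
    (hf : ∀ i, f i ∈ P) (hinj : ∀ i j, f i * u * (f i)⁻¹ = f j * u * (f j)⁻¹ → i = j) :
    Nat.card ι * Nat.card (centralizer {u}) ≤ Nat.card P := by
  rw [← Nat.card_prod]
  refine Nat.card_le_card_of_injective (fun x : ι × centralizer {u} => (⟨f x.1 * x.2, P.mul_mem (hf _) (hC x.2.2)⟩ : P)) ?_
  rintro ⟨c, x⟩ ⟨c', x'⟩ h
  have h2 : f c * (x : Y) = f c' * (x' : Y) := congrArg Subtype.val h
  have hx : (x : Y) * u = u * x := (mem_centralizer_singleton_iff.1 x.2).symm ▸ rfl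
  have hx' : (x' : Y) * u = u * x' := (mem_centralizer_singleton_iff.1 x'.2).symm ▸ rfl
  have key : ∀ (a b : Y), b * u = u * b → (a * b) * u * (a * b)⁻¹ = a * u * a⁻¹ := by
    intro a b hb
    have : a * b * u = a * u * b := by rw [mul_assoc, hb, mul_assoc]
    rw [this]
    group
  have h3 := key (f c) x hx
  have h4 := key (f c') x' hx'
  rw [h2, h4] at h3
  obtain rfl := hinj _ _ h3.symm
  have h7 := mul_left_cancel h2
  rw [Subtype.ext h7]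

variable {I W : Type*} {Y : Type v} [Fintype I] [DecidableEq I] [Group W] [Group Y] {M : CoxeterMatrix I}
  {cs : CoxeterSystem M W} {A : I → I → ℤ} {h : IsCartan M A} {p : ℕ} {T : Subgroup Y} {n : I → Y}
  {X : (I → ℤ) → Subgroup Y}

/-- **The leading root element.** -/
theorem exists_lead [Finite W] (hI : IntComm cs h X) {u : Y} (hu : u ∈ RGD.Sup X (RGD.Pos cs h)) (hu1 : u ≠ 1) :
    ∃ (S : Set (I → ℤ)) (b : I → ℤ), Up cs h S ∧ b ∈ S ∧ (∀ y ∈ S, ht b ≤ ht y) ∧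
      ∃ x ∈ X b, x ≠ 1 ∧ ∃ m ∈ RGD.Sup X (S \ {b}), u = x * m := by
  classical
  have hfin : (RGD.Pos cs h).Finite := (RGD.finite_roots (cs := cs) (h := h)).subset fun _ hx => hx.1
  have hex : ∃ k : ℕ, ∃ S : Set (I → ℤ), Up cs h S ∧ u ∈ RGD.Sup X S ∧ S.ncard = k := ⟨_, _, up_pos, hu, rfl⟩
  obtain ⟨S, hS, huS, hk⟩ := Nat.find_spec hex
  have hSf : S.Finite := hfin.subset hS.1
  have hne : S.Nonempty := by
    by_contra hcon
    rw [Set.not_nonempty_iff_eq_empty] at hcon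
    apply hu1
    rw [hcon] at huS
    have : RGD.Sup X (∅ : Set (I → ℤ)) ≤ ⊥ := RGD.Sup_le fun z hz => absurd hz (Set.notMem_empty z)
    exact Subgroup.mem_bot.1 (this huS)
  obtain ⟨b, hb, hmin⟩ := Set.exists_min_image S (fun y => ht y) hSf hne
  have hS' : Up cs h (S \ {b}) := up_diff hS (by
    intro o ho y hy
    rw [Set.mem_singleton_iff.1 ho]
    exact hmin y hy)
  have hnot : u ∉ RGD.Sup X (S \ {b}) := by
    intro hcon
    have h1 : (S \ {b}).ncard < Nat.find hex := by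
      rw [← hk]
      exact Set.ncard_sdiff_singleton_lt_of_mem hb hSf
    exact Nat.find_min hex h1 ⟨_, hS', hcon, rfl⟩
  have hnorm : X b ≤ Subgroup.normalizer (RGD.Sup X (S \ {b}) : Set Y) := by
    intro a ha
    rw [Subgroup.mem_normalizer_iff]
    intro w
    refine ⟨fun hw => hS'.conj hI (hS.1 hb) ha hw, fun hw => ?_⟩
    have h1 := hS'.conj hI (hS.1 hb) (inv_mem ha) hw
    have e : a⁻¹ * (a * w * a⁻¹) * a⁻¹⁻¹ = w := by group
    rwa [e] at h1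
  have h2 : u ∈ ((X b ⊔ RGD.Sup X (S \ {b}) : Subgroup Y) : Set Y) := by
    have h3 : RGD.Sup X S ≤ X b ⊔ RGD.Sup X (S \ {b}) := RGD.Sup_le fun z hz => by
      by_cases hzb : z = b
      · rw [hzb]; exact le_sup_left
      · exact le_trans (RGD.le_Sup (S := S \ {b}) ⟨hz, hzb⟩) le_sup_right
    exact h3 huS
  rw [Subgroup.coe_mul_of_left_le_normalizer_right _ _ hnorm, Set.mem_mul] at h2
  obtain ⟨x, hx, m, hm, e⟩ := h2
  refine ⟨S, b, hS, hb, hmin, x, hx, ?_, m, hm, e.symm⟩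
  rintro rfl
  rw [one_mul] at e
  exact hnot (e ▸ hm)

/-- **`(|F| - 1) p |C(u)| ≤ |P|`.** -/
theorem card_cent_le [Finite W] [Finite Y] [Fact p.Prime] (R : RGD cs h p T n X) (hI : IntComm cs h X)
    (hab : ∀ x ∈ RGD.Pos cs h, ∀ a ∈ X x, ∀ b ∈ X x, a * b = b * a) {F : Type*} [Finite F] (k : F → Y)
    (hkT : ∀ c, k c ∈ T) {u : Y} (hu : u ∈ RGD.Sup X (RGD.Pos cs h)) {S : Set (I → ℤ)} {b : I → ℤ} (hS : Up cs h S)
    (hb : b ∈ S) (hmin : ∀ y ∈ S, ht b ≤ ht y) {x m : Y} (hx : x ∈ X b) (hm : m ∈ RGD.Sup X (S \ {b})) (he : u = x * m)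
    (hk : ∀ c c', k c * x * (k c)⁻¹ = k c' * x * (k c')⁻¹ → c = c') {v : Y} (hv : v ∈ RGD.Sup X (RGD.Pos cs h))
    (hvu : v * u ≠ u * v) {P : Subgroup Y} (hTP : T ≤ P) (hUP : RGD.Sup X (RGD.Pos cs h) ≤ P)
    (hC : centralizer {u} ≤ P) : Nat.card F * p * Nat.card (centralizer {u}) ≤ Nat.card P := by
  have hS' : Up cs h (S \ {b}) := up_diff hS (by
    intro o ho y hy
    rw [Set.mem_singleton_iff.1 ho]
    exact hmin y hy)
  have hbp : b ∈ RGD.Pos cs h := hS.1 hb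
  have hxU : x ∈ RGD.Sup X (RGD.Pos cs h) := RGD.le_Sup hbp hx
  have hmU : ∀ {w}, w ∈ RGD.Sup X (S \ {b}) → w ∈ RGD.Sup X (RGD.Pos cs h) := fun hw => RGD.Sup_mono hS'.1 hw
  have huS : u ∈ RGD.Sup X S := by
    rw [he]
    exact mul_mem (RGD.le_Sup hb hx) (RGD.Sup_mono Set.sdiff_subset hm)
  -- conjugation by `U` does not change `x` modulo `N`
  have h1 : ∀ w ∈ RGD.Sup X (RGD.Pos cs h), ∃ m' ∈ RGD.Sup X (S \ {b}), w * u * w⁻¹ = x * m' := by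
    intro w hw
    have h2 : ⁅w, u⁆ ∈ RGD.Sup X (S \ {b}) := comm_U hI hab hS (O := {b}) (by
      intro o ho y hy
      rw [Set.mem_singleton_iff.1 ho]
      exact hmin y hy) w hw u huS
    have h3 : x⁻¹ * ⁅w, u⁆ * x⁻¹⁻¹ ∈ RGD.Sup X (S \ {b}) := conj_Sup hI hS' (inv_mem hxU) h2
    refine ⟨x⁻¹ * ⁅w, u⁆ * x⁻¹⁻¹ * m, mul_mem h3 hm, ?_⟩
    have e : w * u * w⁻¹ = ⁅w, u⁆ * u := by rw [commutatorElement_def]; group
    rw [e]
    nth_rw 2 [he]
    group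
  -- the torus
  have hT : ∀ t ∈ T, ∀ w ∈ RGD.Sup X (S \ {b}), t * w * t⁻¹ ∈ RGD.Sup X (S \ {b}) := fun t ht w hw =>
    (Subgroup.mem_normalizer_iff.1 (R.T_le_normalizer (S := S \ {b}) (fun y hy => (hS.1 hy.1).1) ht) w).1 hw
  have hTX : ∀ t ∈ T, t * x * t⁻¹ ∈ X b := fun t ht => by
    have h2 := R.tor b hbp.1 t ht
    have h3 : t * x * t⁻¹ ∈ cj t (X b) := ⟨x, hx, rfl⟩
    rwa [h2] at h3
  -- `v ^ j` centralises `u` only for `p ∣ j`
  have hvp : ∃ e : ℕ, v ^ p ^ e = 1 := by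
    obtain ⟨e, he⟩ := R.isPGroup_Upos ⟨v, hv⟩
    exact ⟨e, congrArg Subtype.val he⟩
  have hvj : ∀ j : ℤ, v ^ j * u = u * v ^ j → (p : ℤ) ∣ j := by
    intro j hj
    by_contra hcon
    obtain ⟨e, he⟩ := hvp
    have hcop : IsCoprime j ((p : ℤ) ^ e) := by
      apply IsCoprime.pow_right
      exact ((Nat.prime_iff_prime_int.1 (Fact.out : p.Prime)).coprime_iff_not_dvd.2 hcon).symm
    obtain ⟨a, c, hac⟩ := hcop
    apply hvu
    have h2 : v = (v ^ j) ^ a := by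
      have h3 : v ^ (p ^ e : ℤ) = 1 := by exact_mod_cast he
      calc v = v ^ (a * j + c * (p : ℤ) ^ e) := by rw [hac, zpow_one]
        _ = (v ^ j) ^ a * (v ^ ((p : ℤ) ^ e)) ^ c := by rw [zpow_add, mul_comm a j, zpow_mul, mul_comm c, zpow_mul]
        _ = (v ^ j) ^ a := by rw [h3, one_zpow, mul_one]
    have h4 : Commute (v ^ j) u := hj
    have h5 := h4.zpow_left a
    rw [← h2] at h5
    exact h5
  have key := count P u hC (fun i : F × Fin p => k i.1 * v ^ ((i.2 : ℕ) : ℤ))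
    (fun i => mul_mem (hTP (hkT _)) (hUP (zpow_mem hv _))) (by
    rintro ⟨c, j⟩ ⟨c', j'⟩ hcj
    have hcj' : k c * v ^ ((j : ℕ) : ℤ) * u * (k c * v ^ ((j : ℕ) : ℤ))⁻¹ =
      k c' * v ^ ((j' : ℕ) : ℤ) * u * (k c' * v ^ ((j' : ℕ) : ℤ))⁻¹ := hcj
    obtain ⟨m1, hm1, e1⟩ := h1 _ (zpow_mem hv ((j : ℕ) : ℤ))
    obtain ⟨m2, hm2, e2⟩ := h1 _ (zpow_mem hv ((j' : ℕ) : ℤ))
    have e3 : ∀ a w : Y, a * w * u * (a * w)⁻¹ = a * (w * u * w⁻¹) * a⁻¹ := fun a w => by group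
    rw [e3, e3, e1, e2] at hcj'
    have e4 : ∀ a y w : Y, a * (y * w) * a⁻¹ = (a * y * a⁻¹) * (a * w * a⁻¹) := fun a y w => by group
    rw [e4, e4] at hcj'
    have h6 : (k c' * x * (k c')⁻¹)⁻¹ * (k c * x * (k c)⁻¹) =
        (k c' * m2 * (k c')⁻¹) * (k c * m1 * (k c)⁻¹)⁻¹ := by
      rw [inv_mul_eq_iff_eq_mul, ← mul_assoc, ← hcj', mul_inv_cancel_right]
    have h7 : (k c' * x * (k c')⁻¹)⁻¹ * (k c * x * (k c)⁻¹) = 1 := by
      refine inf_eq_one R hI hS' hbp (fun h => h.2 rfl) (mul_mem (inv_mem (hTX _ (hkT c'))) (hTX _ (hkT c))) ?_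
      rw [h6]
      exact mul_mem (hT _ (hkT c') _ hm2) (inv_mem (hT _ (hkT c) _ hm1))
    have h8 : c = c' := hk c c' (inv_mul_eq_one.1 h7).symm
    subst h8
    rw [← e4, ← e4] at hcj'
    have h9 : x * m1 = x * m2 := mul_left_cancel (mul_right_cancel hcj')
    rw [← e1, ← e2] at h9
    have h10 : v ^ (((j : ℕ) : ℤ) - ((j' : ℕ) : ℤ)) * u = u * v ^ (((j : ℕ) : ℤ) - ((j' : ℕ) : ℤ)) := by
      have h11 : v ^ (((j : ℕ) : ℤ) - ((j' : ℕ) : ℤ)) = (v ^ ((j' : ℕ) : ℤ))⁻¹ * v ^ ((j : ℕ) : ℤ) := by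
        rw [← zpow_neg, ← zpow_add]
        congr 1
        ring
      rw [h11]
      calc (v ^ ((j' : ℕ) : ℤ))⁻¹ * v ^ ((j : ℕ) : ℤ) * u
          = (v ^ ((j' : ℕ) : ℤ))⁻¹ * (v ^ ((j : ℕ) : ℤ) * u * (v ^ ((j : ℕ) : ℤ))⁻¹) * v ^ ((j : ℕ) : ℤ) := by group
        _ = u * ((v ^ ((j' : ℕ) : ℤ))⁻¹ * v ^ ((j : ℕ) : ℤ)) := by rw [h9]; group
    have h12 := hvj _ h10
    have h13 : (j : ℕ) = j' := by
      have hj := j.2
      have hj' := j'.2
      by_contra hne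
      have h14 : (p : ℤ) ≤ |((j : ℕ) : ℤ) - ((j' : ℕ) : ℤ)| :=
        Int.le_of_dvd (abs_pos.2 (by omega)) ((dvd_abs _ _).2 h12)
      rw [le_abs] at h14
      omega
    rw [Fin.ext h13])

  rw [Nat.card_prod, Nat.card_eq_fintype_card (α := Fin p), Fintype.card_fin] at key
  exact key

end Cfsg.Agent.H520.FC
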