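import Cfsg.Agent.H520.FC.Defs
import Cfsg.Agent.H520.FC.Lead
import Cfsg.Agent.H744.FC.Par
import Cfsg.Agent.H548.CosetMod

/-!
# S2464, `F₄(q)`, `q = 5, 7, 17`: `2 |C(g)| < d2²` for `p`-singular `g`, not a long root element (helper520)

* `cb_unip` : `g` of order a power of `p`, from `OC3`, `OB3` and `Z(U) = X_θ`;
* `cb_of` : all `g`, from `Mixed`.
-/

set_option autoImplicit false
set_option linter.unusedSectionVars false

namespace Cfsg.Agent.H520.FC

open Subgroup CoxeterSystem Cfsg.Agent.ChevalleyStructure.CoxeterGeom Cfsg.Agent.Tits.Core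
  Cfsg.Agent.Tits.Exchange Cfsg.Agent.Nodes.Reps Cfsg.Agent.Nodes.BNOf Cfsg.Agent.Nodes.StabComb
  Cfsg.Agent.Nodes.Bruhat Cfsg.Agent.Nodes.OppDec Cfsg.Agent.Nodes.LeviDec Cfsg.Agent.Nodes.NormX
  Cfsg.Agent.Nodes.Coroot Cfsg.Agent.Nodes.RGDChev Cfsg.Agent.KFacts.RgdPar Cfsg.Agent.KFacts.RgdTI
  Cfsg.Agent.KFacts.RgdCent Cfsg.Agent.KFacts.RgdChevCoord Cfsg.Agent.Nodes.ChevCls
  Cfsg.Agent.OddHalf.NI.ModelChev Cfsg.Agent.H225.PPow
open Cfsg.Agent.Tits.Roots hiding ht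
open Cfsg.Agent.OddHalf.D4.LineRgd (ht)
open Cfsg.Lie Cfsg.Agent.ChevalleyStructure Cfsg.Agent.ChevalleyStructure.Elts
  Cfsg.Agent.ChevalleyStructure.RootVec Cfsg.Agent.ChevalleyStructure.NPerm
  Cfsg.Agent.ChevalleyStructure.CoxeterGeomTypes
open Cfsg.Agent.H701.F43.Cent (hF cF nroots finW)
open Cfsg.Agent.KFacts.RgdBorelTits Cfsg.Agent.KFacts.RgdFilt

universe u

/-- orbit and stabiliser -/
theorem cls_mul_le {Y : Type*} [Group Y] [Finite Y] {P : Subgroup Y} {u : Y} (hC : centralizer {u} ≤ P) :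
    Nat.card ↥(cls P u) * Nat.card (centralizer {u}) ≤ Nat.card P := by
  have hex : ∀ x : ↥(cls P u), ∃ g ∈ P, g * u * g⁻¹ = x := fun x => x.2
  choose f hf hfx using hex
  refine count P u hC f hf fun i j hij => ?_
  rw [hfx, hfx] at hij
  exact Subtype.ext hij

section

variable {K : Type u} [Field K]

theorem tab_cartan : ∀ r < 48, ∃ i : Fin 4, chevF4.cartan i r = 1 ∨ chevF4.cartan i r = -1 := by decide +kernel

/-- the torus on a root group -/
theorem exists_torus {b : Fin 4 → ℤ} (hb : IsRoot cF hF.isCartan b) {x : ↥(chevF4.group K)} (p : ℕ)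
    [Fact p.Prime] [CharP K p] [Finite K] (hx : x ∈ XX chevF4 4 K b) (hx1 : x ≠ 1) :
    ∃ k : Kˣ → ↥(chevF4.group K), (∀ c, k c ∈ TT chevF4 K) ∧
      ∀ c c', k c * x * (k c)⁻¹ = k c' * x * (k c')⁻¹ → c = c' := by
  obtain ⟨r, hr, rfl⟩ := (isRoot_iff hF cF b).1 hb
  have C := (coords (K := K) hF cF p).coord _ hb
  obtain ⟨a, rfl⟩ := (C.mem x).1 hx
  have ha : a ≠ 0 := by
    rintro rfl
    exact hx1 C.zero
  obtain ⟨i, hi⟩ := tab_cartan r (by rw [← nroots]; exact hr)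
  refine ⟨fun c => hc hF i (c : K), fun c => hc_mem hF i c.ne_zero, fun c c' hcc => ?_⟩
  have h1 : ∀ c : Kˣ, hc hF i (c : K) * xc hF (vec chevF4 4 r) a * (hc hF i (c : K))⁻¹ =
      xc hF (vec chevF4 4 r) ((c : K) ^ chevF4.cartan i r * a) := by
    intro c
    have h2 := (act hF hr (hc_mem hF i c.ne_zero)).2 a
    rw [ch_hc hF i c.ne_zero hr] at h2
    exact h2
  have hcc' : hc hF i (c : K) * xc hF (vec chevF4 4 r) a * (hc hF i (c : K))⁻¹ =
    hc hF i (c' : K) * xc hF (vec chevF4 4 r) a * (hc hF i (c' : K))⁻¹ := hcc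
  rw [h1, h1] at hcc'
  have h3 := xc_inj hF hr hcc'
  have h4 : (c : K) ^ chevF4.cartan i r = (c' : K) ^ chevF4.cartan i r := mul_right_cancel₀ ha h3
  apply Units.ext
  rcases hi with hi | hi
  · rwa [hi, zpow_one, zpow_one] at h4
  · rw [hi, zpow_neg_one, zpow_neg_one] at h4
    exact inv_injective h4

theorem Lng.conj {u : ↥(chevF4.group K)} (g : ↥(chevF4.group K)) (h : Lng (g⁻¹ * u * g)) : Lng u := by
  obtain ⟨a, ha⟩ := h
  refine ⟨a * g⁻¹, ?_⟩
  have e : a * g⁻¹ * u * (a * g⁻¹)⁻¹ = a * (g⁻¹ * u * g) * a⁻¹ := by group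
  rw [e]
  exact ha

theorem card_cent_conj {Y : Type*} [Group Y] [Finite Y] (g u : Y) :
    Nat.card (centralizer ({g⁻¹ * u * g} : Set Y)) = Nat.card (centralizer ({u} : Set Y)) := by
  refine Nat.card_congr ((MulAut.conj g).toEquiv.subtypeEquiv fun x => ?_)
  show x ∈ centralizer _ ↔ g * x * g⁻¹ ∈ centralizer _
  rw [mem_centralizer_singleton_iff, mem_centralizer_singleton_iff]
  constructor
  · intro hx
    calc g * x * g⁻¹ * u = g * (x * (g⁻¹ * u * g)) * g⁻¹ := by group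
      _ = g * ((g⁻¹ * u * g) * x) * g⁻¹ := by rw [hx]
      _ = u * (g * x * g⁻¹) := by group
  · intro hx
    calc x * (g⁻¹ * u * g) = g⁻¹ * (g * x * g⁻¹ * u) * g := by group
      _ = g⁻¹ * (u * (g * x * g⁻¹)) * g := by rw [hx]
      _ = g⁻¹ * u * g * x := by group

/-- the commutators -/
theorem intComm : IntComm cF hF.isCartan (XX chevF4 4 K) := by
  have h0 := KFacts.RgdFiltChev.intComm_GL (K := K) hF cF
  intro x y hx hy hxy hxy' a ha b hb
  have h2 := h0 x y hx hy hxy hxy' a ha b hb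
  have h3 : FS (XX chevF4 4 K) {z | IB cF hF.isCartan x y z} =
      (FS (XV chevF4 4 K) {z | IB cF hF.isCartan x y z}).subgroupOf (chevF4.group K) := by
    unfold FS
    rw [Nodes.RGDLib.iSup_subgroupOf]
    rintro ⟨z, hz⟩
    exact XV_le_group hF z
  rw [h3, Subgroup.mem_subgroupOf]
  exact h2

/-- the root groups are abelian -/
theorem xab [Finite K] (p : ℕ) [Fact p.Prime] [CharP K p] : ∀ x ∈ RGD.Pos cF hF.isCartan,
    ∀ a ∈ XX chevF4 4 K x, ∀ b ∈ XX chevF4 4 K x, a * b = b * a := by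
  intro x hx a ha b hb
  have C := (coords (K := K) hF cF p).coord x hx.1
  obtain ⟨s, rfl⟩ := (C.mem a).1 ha
  obtain ⟨t, rfl⟩ := (C.mem b).1 hb
  rw [← C.add, ← C.add, add_comm]

/-- **`(q - 1) q |C(v)| ≤ |P|`**, `v ∈ U` not central in `U`. -/
theorem card_gen [Finite K] (p : ℕ) [Fact p.Prime] [CharP K p] {v : ↥(chevF4.group K)}
    (hv : v ∈ RGD.Sup (XX chevF4 4 K) (RGD.Pos cF hF.isCartan)) (hv1 : v ≠ 1)
    {w : ↥(chevF4.group K)} (hw : w ∈ RGD.Sup (XX chevF4 4 K) (RGD.Pos cF hF.isCartan)) (hwv : w * v ≠ v * w)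
    {J : Set (Fin 4)} (hC : centralizer {v} ≤ PK K J) :
    (Nat.card K - 1) * p * Nat.card ↥(centralizer ({v} : Set ↥(chevF4.group K))) ≤ Nat.card ↥(PK K J) := by
  have hW := finite_W hF cF
  have hfin : Finite ↥(chevF4.group K) := inferInstance
  have R := rgd (K := K) hF cF p
  obtain ⟨S, b, hS, hb, hmin, x, hx, hx1, m, hm, he⟩ := exists_lead intComm hv hv1
  obtain ⟨k, hkT, hk⟩ := exists_torus (hS.1 hb).1 p hx hx1
  have hB : RGD.B cF hF.isCartan (TT chevF4 K) (XX chevF4 4 K) ≤ PK K J := B_le_PJ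
  have key := card_cent_le (P := PK K J) R intComm (xab p) k hkT hv hS hb hmin hx hm he hk hw hwv
    (le_trans RGD.T_le_B hB) (le_trans RGD.U_le_B hB) hC
  have h1 : Nat.card Kˣ = Nat.card K - 1 := Nat.card_units K
  rw [h1] at key
  exact key

/-- `K` is the prime field -/
theorem p_eq [Finite K] (p : ℕ) [hp : Fact p.Prime] [CharP K p]
    (hq : Nat.card K = 5 ∨ Nat.card K = 7 ∨ Nat.card K = 17) : p = Nat.card K := by
  have := Fintype.ofFinite K
  obtain ⟨n, hn, hcard⟩ := FiniteField.card K p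
  have h1 : p ∣ Nat.card K := by
    rw [Nat.card_eq_fintype_card, hcard]
    exact dvd_pow_self p n.ne_zero
  rcases hq with h | h | h <;> rw [h] at h1 ⊢
  · exact (Nat.prime_dvd_prime_iff_eq hp.out (by norm_num)).1 h1
  · exact (Nat.prime_dvd_prime_iff_eq hp.out (by norm_num)).1 h1
  · exact (Nat.prime_dvd_prime_iff_eq hp.out (by norm_num)).1 h1

/-- **The unipotent elements.** -/
theorem cb_unip [Finite K] {p : ℕ} [Fact p.Prime] [CharP K p] (hq : Nat.card K = 5 ∨ Nat.card K = 7 ∨ Nat.card K = 17)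
    (h3 : OC3 K) (h0 : OB3 K)
    (hZ : ∀ u ∈ RGD.Sup (XX chevF4 4 K) (RGD.Pos cF hF.isCartan),
      (∀ v ∈ RGD.Sup (XX chevF4 4 K) (RGD.Pos cF hF.isCartan), u * v = v * u) → u ∈ XT K)
    {c : ℕ} (hc : c = 2 ∨ c = 10 ∧ Nat.card K = 17)
    {u : ↥(chevF4.group K)} (hu1 : u ≠ 1) {e : ℕ} (hue : u ^ p ^ e = 1) (hl : ¬ Lng u) :
    c * Nat.card ↥(centralizer ({u} : Set ↥(chevF4.group K))) < d2 (Nat.card K) ^ 2 := by
  have hW := finite_W hF cF
  have hfin : Finite ↥(chevF4.group K) := inferInstance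
  have hFil := KFacts.RgdFiltChev.filt (K := K) hF cF p
  have hG := KFacts.RgdFilt.GG_eq_top (T := TT chevF4 K) (G1_eq_top hF (K := K) cF)
  have R := rgd (K := K) hF cF p
  have hpq : p = Nat.card K := p_eq p hq
  have hK : IsPGroup p (zpowers u) := by
    rintro ⟨y, n, rfl⟩
    refine ⟨e, Subtype.ext ?_⟩
    show (u ^ n) ^ p ^ e = 1
    rw [← zpow_natCast, ← zpow_mul, mul_comm, zpow_mul, zpow_natCast, hue, one_zpow]
  obtain ⟨g, J, hJ, hle, hN⟩ := borel_tits hFil hG hK (by rw [Ne, zpowers_eq_bot]; exact hu1)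
  obtain ⟨v, hv, hvu⟩ : ∃ v ∈ VK K J, g * v * g⁻¹ = u := by
    obtain ⟨v, hv, hvu⟩ := hle (mem_zpowers u)
    exact ⟨v, hv, hvu⟩
  have hvu' : v = g⁻¹ * u * g := by rw [← hvu]; group
  have hlv : ¬ Lng v := fun hcon => hl (Lng.conj g (hvu' ▸ hcon))
  have hv1 : v ≠ 1 := by
    rintro rfl
    apply hu1
    rw [← hvu]
    group
  have hCv : centralizer {v} ≤ PK K J := by
    intro x hx
    have h1 : g * x * g⁻¹ ∈ cj g (PK K J) := by
      apply hN
      refine centralizer_le_normalizer _ ?_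
      rw [mem_centralizer_iff]
      rintro y ⟨n, rfl⟩
      have h2 : Commute u (g * x * g⁻¹) := by
        have h3 := mem_centralizer_singleton_iff.1 hx
        show u * (g * x * g⁻¹) = g * x * g⁻¹ * u
        rw [← hvu]
        calc g * v * g⁻¹ * (g * x * g⁻¹) = g * (v * x) * g⁻¹ := by group
          _ = g * (x * v) * g⁻¹ := by rw [h3]
          _ = g * x * g⁻¹ * (g * v * g⁻¹) := by group
      exact h2.zpow_left n
    obtain ⟨y, hy, hyx⟩ := h1
    have h2 : y = x := (MulAut.conj g).injective hyx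
    exact h2 ▸ hy
  have hcard : Nat.card ↥(centralizer ({u} : Set ↥(chevF4.group K))) = Nat.card ↥(centralizer ({v} : Set ↥(chevF4.group K))) := by
    rw [hvu', card_cent_conj]
  rw [hcard]
  have hvU : v ∈ RGD.Sup (XX chevF4 4 K) (RGD.Pos cF hF.isCartan) := VJ_le_U J hv
  have hgen : ∀ J' : Set (Fin 4), J ⊆ J' →
      (Nat.card K - 1) * Nat.card K * Nat.card ↥(centralizer ({v} : Set ↥(chevF4.group K))) ≤ Nat.card ↥(PK K J') := by
    intro J' hJJ
    have hnc : ∃ w ∈ RGD.Sup (XX chevF4 4 K) (RGD.Pos cF hF.isCartan), w * v ≠ v * w := by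
      by_contra hcon
      push Not at hcon
      refine hlv ⟨1, ?_⟩
      rw [one_mul, inv_one, mul_one]
      exact hZ v hvU fun w hw => (hcon w hw).symm
    obtain ⟨w, hw, hwv⟩ := hnc
    have h1 := card_gen p hvU hv1 hw hwv hCv
    rw [hpq] at h1
    exact le_trans h1 (H744.FC.card_le_of_subset hJJ)
  have e3 : ({0, 1, 2} : Set (Fin 4)) = {k | k ≠ 3} := by
    ext j
    simp only [Set.mem_insert_iff, Set.mem_singleton_iff, Set.mem_ofPred_eq]
    revert j
    decide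
  have e0 : ({1, 2, 3} : Set (Fin 4)) = {k | k ≠ 0} := by
    ext j
    simp only [Set.mem_insert_iff, Set.mem_singleton_iff, Set.mem_ofPred_eq]
    revert j
    decide
  have hd : ∀ q, q = 5 ∨ q = 7 ∨ q = 17 → (c = 2 ∨ c = 10 ∧ q = 17) → ∀ N : ℕ,
      ((q - 1) * q * N ≤ ((1 + q) * (1 + q + q ^ 2) * (1 + q)) * (q ^ 24 * (q - 1) ^ 4) ∨
        (q - 1) * q * N ≤ ((1 + q) * (1 + q) * (1 + q ^ 2)) * (q ^ 24 * (q - 1) ^ 4) ∨
        q ^ 7 * N ≤ ((1 + q) * ((1 + q) * (1 + q ^ 2)) * ((1 + q + q ^ 2) * (1 + q ^ 3))) * (q ^ 24 * (q - 1) ^ 4) ∨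
        (q - 1) ^ 2 * q ^ 5 * N ≤
          2 * (((1 + q) * ((1 + q) * (1 + q ^ 2)) * ((1 + q + q ^ 2) * (1 + q ^ 3))) * (q ^ 24 * (q - 1) ^ 4))) →
      c * N < d2 q ^ 2 := by
    intro q hq' hc' N hN
    have h2 : c ≤ 10 ∧ (q ≠ 17 → c = 2) := by omega
    clear hc hc'
    rcases hq' with rfl | rfl | rfl
    · obtain rfl : c = 2 := h2.2 (by norm_num)
      rw [d2]; norm_num at hN ⊢; omega
    · obtain rfl : c = 2 := h2.2 (by norm_num)
      rw [d2]; norm_num at hN ⊢; omega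
    · refine lt_of_le_of_lt (Nat.mul_le_mul_right _ h2.1) ?_
      rw [d2]; norm_num at hN ⊢; omega
  have hd' := hd _ hq hc (Nat.card ↥(centralizer ({v} : Set ↥(chevF4.group K))))
  rcases H744.FC.sub_cases hJ with rfl | rfl | h1 | h1 | h1
  · rw [e3] at hv hCv
    apply hd'
    right; right; left
    rw [← H744.FC.card_ne3]
    refine le_trans ?_ (cls_mul_le hCv)
    exact Nat.mul_le_mul_right _ (h3 v hv fun hcon => hlv ⟨1, by rwa [one_mul, inv_one, mul_one]⟩)
  · rw [e0] at hv hCv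
    apply hd'
    right; right; right
    rw [← H744.FC.card_ne0]
    calc (Nat.card K - 1) ^ 2 * Nat.card K ^ 5 * Nat.card ↥(centralizer ({v} : Set ↥(chevF4.group K)))
        ≤ 2 * Nat.card ↥(cls (PK K {k | k ≠ 0}) v) * Nat.card ↥(centralizer ({v} : Set ↥(chevF4.group K))) :=
          Nat.mul_le_mul_right _ (h0 v hv hlv)
      _ = 2 * (Nat.card ↥(cls (PK K {k | k ≠ 0}) v) * Nat.card ↥(centralizer ({v} : Set ↥(chevF4.group K)))) := by ring
      _ ≤ _ := Nat.mul_le_mul_left _ (cls_mul_le hCv)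
  · apply hd'
    left
    rw [← H744.FC.card_013 (J := {0, 1, 3}) (by simp)]
    exact hgen _ h1
  · apply hd'
    left
    rw [← H744.FC.card_023 (J := {0, 2, 3}) (by simp)]
    exact hgen _ h1
  · apply hd'
    right; left
    rw [← H744.FC.card_12 (J := {1, 2}) (by simp)]
    exact hgen _ h1

/-- **The bound**, from its parts, with the factor `c`. -/
theorem cbc_of [Finite K] {p : ℕ} [Fact p.Prime] [CharP K p] (hq : Nat.card K = 5 ∨ Nat.card K = 7 ∨ Nat.card K = 17)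
    (h3 : OC3 K) (h0 : OB3 K)
    (hZ : ∀ u ∈ RGD.Sup (XX chevF4 4 K) (RGD.Pos cF hF.isCartan),
      (∀ v ∈ RGD.Sup (XX chevF4 4 K) (RGD.Pos cF hF.isCartan), u * v = v * u) → u ∈ XT K)
    {c : ℕ} (hc : c = 2 ∨ c = 10 ∧ Nat.card K = 17)
    (hM : ∀ u s : ↥(chevF4.group K), u * s = s * u → u ≠ 1 → u ∈ XT K → s ≠ 1 → (orderOf s).Coprime p →
      c * Nat.card ↥(Subgroup.centralizer ({u * s} : Set ↥(chevF4.group K))) < d2 (Nat.card K) ^ 2)
    {g : ↥(chevF4.group K)} (hg : p ∣ orderOf g) (hl : ¬ Lng g) :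
    c * Nat.card ↥(Subgroup.centralizer ({g} : Set ↥(chevF4.group K))) < d2 (Nat.card K) ^ 2 := by
  have hfin : Finite ↥(chevF4.group K) := inferInstance
  obtain ⟨i, j, k, m, hij, hi, hj, hm⟩ := Cfsg.Agent.H548.CosetMod.exists_parts p g
  set u := g ^ i with hu
  set s := g ^ j with hs
  have hus : u * s = s * u := by rw [hu, hs, ← pow_add, ← pow_add, add_comm]
  have hu1 : u ≠ 1 := by
    intro hcon
    rw [hcon, one_mul] at hij
    rw [hij] at hg
    have h1 : p ∣ m := hg.trans (orderOf_dvd_of_pow_eq_one hj)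
    exact (Nat.Prime.coprime_iff_not_dvd Fact.out).1 hm h1
  by_cases hlu : Lng u
  · obtain ⟨a, ha⟩ := hlu
    have hs1 : s ≠ 1 := by
      intro hcon
      rw [hcon, mul_one] at hij
      exact hl ⟨a, by rwa [hij]⟩
    have h1 := hM (a * u * a⁻¹) (a * s * a⁻¹) (by
        calc a * u * a⁻¹ * (a * s * a⁻¹) = a * (u * s) * a⁻¹ := by group
          _ = a * (s * u) * a⁻¹ := by rw [hus]
          _ = a * s * a⁻¹ * (a * u * a⁻¹) := by group) (by
        intro hcon
        apply hu1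
        have : u = a⁻¹ * (a * u * a⁻¹) * a := by group
        rw [this, hcon]
        group) ha (by
        intro hcon
        apply hs1
        have : s = a⁻¹ * (a * s * a⁻¹) * a := by group
        rw [this, hcon]
        group) (by
        have h2 : orderOf (a * s * a⁻¹) ∣ m := by
          apply orderOf_dvd_of_pow_eq_one
          rw [conj_pow, hj]
          group
        exact Nat.Coprime.coprime_dvd_left h2 hm.symm)
    have h2 : a * u * a⁻¹ * (a * s * a⁻¹) = a⁻¹⁻¹ * g * a⁻¹ := by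
      rw [hij]
      group
    rw [h2, card_cent_conj] at h1
    exact h1
  · refine lt_of_le_of_lt ?_ (cb_unip (p := p) hq h3 h0 hZ hc hu1 hi hlu)
    refine Nat.mul_le_mul_left _ (Nat.card_le_card_of_injective (Subgroup.inclusion ?_) (Subgroup.inclusion_injective _))
    intro y hy
    rw [mem_centralizer_singleton_iff] at hy ⊢
    have h1 : Commute y g := hy
    exact h1.pow_right i

/-- **The bound**, from its parts. -/
theorem cb_of [Finite K] {p : ℕ} [Fact p.Prime] [CharP K p] (hq : Nat.card K = 5 ∨ Nat.card K = 7 ∨ Nat.card K = 17)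
    (h3 : OC3 K) (h0 : OB3 K)
    (hZ : ∀ u ∈ RGD.Sup (XX chevF4 4 K) (RGD.Pos cF hF.isCartan),
      (∀ v ∈ RGD.Sup (XX chevF4 4 K) (RGD.Pos cF hF.isCartan), u * v = v * u) → u ∈ XT K)
    (hM : Mixed K p) : CB K p :=
  fun _ hg hl => cbc_of hq h3 h0 hZ (Or.inl rfl) hM hg hl

end

end Cfsg.Agent.H520.FC
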