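import Cfsg.Agent.H701.F43.Cent
import Cfsg.Agent.KFacts.RgdFiltChev

/-!
# S2464, `F₄(q)`, `q` odd: the interface of the bound for `|C(g)|`, `g` `p`-singular, no long root element (helper520)

`θ = vec chevF4 4 47` the highest root, node `3` the long end, node `0` the short end.

* `PK K J`, `VK K J` : the parabolic subgroups and their unipotent radicals;
* `cls P u` : the class of `u` under `P`;
* `Lng u` : `u` is conjugate into the root group of `θ`;
* `OC3`, `OB3` : the bounds for the classes in the parabolics of type `C₃`, `B₃`;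
* `Mixed` : the bound for `g = u s`, `u` a long root element, `s ≠ 1` of order prime to `p`;
* `CB` : the bound for all `g`.
-/

set_option autoImplicit false
set_option linter.unusedSectionVars false

namespace Cfsg.Agent.H520.FC

open CoxeterSystem Cfsg.Agent.ChevalleyStructure.CoxeterGeom Cfsg.Agent.Tits.Roots Cfsg.Agent.Tits.Core
  Cfsg.Agent.Tits.Exchange Cfsg.Agent.Nodes.Reps Cfsg.Agent.Nodes.BNOf Cfsg.Agent.Nodes.StabComb
  Cfsg.Agent.Nodes.Bruhat Cfsg.Agent.Nodes.OppDec Cfsg.Agent.Nodes.LeviDec Cfsg.Agent.Nodes.NormX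
  Cfsg.Agent.Nodes.Coroot Cfsg.Agent.Nodes.RGDChev Cfsg.Agent.KFacts.RgdPar Cfsg.Agent.KFacts.RgdTI
  Cfsg.Agent.KFacts.RgdCent Cfsg.Agent.KFacts.RgdChevCoord Cfsg.Agent.Nodes.ChevCls
  Cfsg.Agent.OddHalf.NI.ModelChev Cfsg.Agent.H225.PPow
open Cfsg.Lie Cfsg.Agent.ChevalleyStructure Cfsg.Agent.ChevalleyStructure.Elts
  Cfsg.Agent.ChevalleyStructure.RootVec Cfsg.Agent.ChevalleyStructure.NPerm
  Cfsg.Agent.ChevalleyStructure.CoxeterGeomTypes
open Cfsg.Agent.H701.F43.Cent (hF cF)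

universe u

/-- the parabolic subgroup `P_J` -/
abbrev PK (K : Type u) [Field K] (J : Set (Fin 4)) : Subgroup ↥(chevF4.group K) :=
  PJ cF hF.isCartan (TT chevF4 K) (XX chevF4 4 K) J

/-- its unipotent radical -/
abbrev VK (K : Type u) [Field K] (J : Set (Fin 4)) : Subgroup ↥(chevF4.group K) :=
  VJ cF hF.isCartan (XX chevF4 4 K) J

/-- the root group of the highest root -/
abbrev XT (K : Type u) [Field K] : Subgroup ↥(chevF4.group K) := XX chevF4 4 K (vec chevF4 4 47)

/-- the class of `u` under `P` -/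
def cls {Y : Type*} [Group Y] (P : Subgroup Y) (u : Y) : Set Y := {x | ∃ g ∈ P, g * u * g⁻¹ = x}

section

variable {K : Type u} [Field K]

/-- `u` is conjugate into the root group of the highest root -/
def Lng (u : ↥(chevF4.group K)) : Prop := ∃ g : ↥(chevF4.group K), g * u * g⁻¹ ∈ XT K

end

/-- the parabolic of type `C₃` -/
def OC3 (K : Type u) [Field K] : Prop :=
  ∀ u ∈ VK K {k | k ≠ 3}, u ∉ XT K → Nat.card K ^ 7 ≤ Nat.card ↥(cls (PK K {k | k ≠ 3}) u)

/-- the parabolic of type `B₃` -/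
def OB3 (K : Type u) [Field K] : Prop :=
  ∀ u ∈ VK K {k | k ≠ 0}, ¬ Lng u →
    (Nat.card K - 1) ^ 2 * Nat.card K ^ 5 ≤ 2 * Nat.card ↥(cls (PK K {k | k ≠ 0}) u)

/-- the degree of the two middle characters -/
def d2 (q : ℕ) : ℕ := q ^ 8 * (q ^ 2 - 1) * (q ^ 6 - 1) / 2

/-- the mixed elements -/
def Mixed (K : Type u) [Field K] (p : ℕ) : Prop :=
  ∀ u s : ↥(chevF4.group K), u * s = s * u → u ≠ 1 → u ∈ XT K → s ≠ 1 → (orderOf s).Coprime p →
    2 * Nat.card ↥(Subgroup.centralizer ({u * s} : Set ↥(chevF4.group K))) < d2 (Nat.card K) ^ 2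

/-- **The bound.** -/
def CB (K : Type u) [Field K] (p : ℕ) : Prop :=
  ∀ g : ↥(chevF4.group K), p ∣ orderOf g → ¬ Lng g →
    2 * Nat.card ↥(Subgroup.centralizer ({g} : Set ↥(chevF4.group K))) < d2 (Nat.card K) ^ 2

end Cfsg.Agent.H520.FC
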