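import Cfsg.Agent.H520.FC.CB
import Cfsg.Agent.H797.FQ.OC3
import Cfsg.Agent.H446.FC.V7
import Cfsg.Agent.H7.FC.Center

/-!
# S2464, `F₄(q)`, `q = 5, 7, 17`: the bound from the spin layer and the mixed elements (helper520)
-/

set_option autoImplicit false
set_option linter.unusedSectionVars false

namespace Cfsg.Agent.H520.FC

open Subgroup CoxeterSystem Cfsg.Agent.ChevalleyStructure.CoxeterGeom Cfsg.Agent.Tits.Core
  Cfsg.Agent.Tits.Exchange Cfsg.Agent.Nodes.Reps Cfsg.Agent.Nodes.BNOf Cfsg.Agent.Nodes.StabComb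
  Cfsg.Agent.Nodes.Bruhat Cfsg.Agent.Nodes.OppDec Cfsg.Agent.Nodes.LeviDec Cfsg.Agent.Nodes.NormX
  Cfsg.Agent.Nodes.Coroot Cfsg.Agent.Nodes.RGDChev Cfsg.Agent.KFacts.RgdPar Cfsg.Agent.KFacts.RgdTI
  Cfsg.Agent.KFacts.RgdCent Cfsg.Agent.KFacts.RgdChevCoord Cfsg.Agent.Nodes.ChevCls
  Cfsg.Agent.OddHalf.NI.ModelChev Cfsg.Agent.H225.PPow Cfsg.Agent.Tits.Roots
open Cfsg.Lie Cfsg.Agent.ChevalleyStructure Cfsg.Agent.ChevalleyStructure.Elts
  Cfsg.Agent.ChevalleyStructure.RootVec Cfsg.Agent.ChevalleyStructure.NPerm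
  Cfsg.Agent.ChevalleyStructure.CoxeterGeomTypes
open Cfsg.Agent.H701.F43.Cent (hF cF)

universe u

variable {K : Type u} [Field K]

/-- `2 ≠ 0` -/
theorem two_ne (hq : Nat.card K = 5 ∨ Nat.card K = 7 ∨ Nat.card K = 17) : (2 : K) ≠ 0 := by
  have hfin : Finite K := Nat.finite_of_card_ne_zero (by omega)
  obtain ⟨p, hp⟩ := CharP.exists K
  have hpf : Fact p.Prime := ⟨CharP.char_is_prime K p⟩
  have h1 := p_eq p hq
  intro h2
  have h3 : ((2 : ℕ) : K) = 0 := by exact_mod_cast h2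
  rw [CharP.cast_eq_zero_iff K p] at h3
  have h4 := Nat.le_of_dvd (by norm_num) h3
  omega

/-- `OB3` from the spin layer -/
theorem ob3_of [Finite K] (h2 : (2 : K) ≠ 0)
    (hs : ∀ u ∈ VK K {k | k ≠ 0},
      u ∉ RGD.Sup (XX chevF4 4 K) {x | x ∈ NotJ cF hF.isCartan {k | k ≠ 0} ∧ 2 ≤ x 0} →
      Nat.card K ^ 7 ≤ Nat.card ↥(cls (PK K {k | k ≠ 0}) u)) : OB3 K := by
  intro u hu hl
  by_cases h : u ∈ RGD.Sup (XX chevF4 4 K) {x | x ∈ NotJ cF hF.isCartan {k | k ≠ 0} ∧ 2 ≤ x 0}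
  · exact Cfsg.Agent.H446.FC.ob3_v7 h2 h hl
  · have h1 := hs u hu h
    have h3 : (Nat.card K - 1) ^ 2 * Nat.card K ^ 5 ≤ Nat.card K ^ 7 := by
      calc (Nat.card K - 1) ^ 2 * Nat.card K ^ 5 ≤ Nat.card K ^ 2 * Nat.card K ^ 5 :=
            Nat.mul_le_mul_right _ (Nat.pow_le_pow_left (Nat.sub_le _ _) 2)
        _ = Nat.card K ^ 7 := by rw [← pow_add]
    omega

/-- `OC3` -/
theorem oc3 [Finite K] (h2 : (2 : K) ≠ 0) : OC3 K := fun _ hu hu' => Cfsg.Agent.H797.FQ.oc3 h2 hu hu'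

/-- the bound, from the spin layer and the mixed elements -/
theorem cb_of2 {p : ℕ} [Fact p.Prime] [CharP K p] (hq : Nat.card K = 5 ∨ Nat.card K = 7 ∨ Nat.card K = 17)
    (h0 : OB3 K) {c : ℕ} (hc : c = 2 ∨ c = 10 ∧ Nat.card K = 17)
    (hM : ∀ u s : ↥(chevF4.group K), u * s = s * u → u ≠ 1 → u ∈ XT K → s ≠ 1 → (orderOf s).Coprime p →
      10 * Nat.card ↥(Subgroup.centralizer ({u * s} : Set ↥(chevF4.group K))) < d2 (Nat.card K) ^ 2)
    {g : ↥(chevF4.group K)} (hg : p ∣ orderOf g) (hl : ¬ Lng g) :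
    c * Nat.card ↥(Subgroup.centralizer ({g} : Set ↥(chevF4.group K))) < d2 (Nat.card K) ^ 2 := by
  have hfin : Finite K := Nat.finite_of_card_ne_zero (by omega)
  have h2 := two_ne hq
  refine cbc_of hq (oc3 h2) h0 (fun u hu hc => Cfsg.Agent.H7.FC.center_U h2 hu hc) hc (fun u s a b d e f => ?_) hg hl
  refine lt_of_le_of_lt (Nat.mul_le_mul_right _ ?_) (hM u s a b d e f)
  omega

end Cfsg.Agent.H520.FC
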