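import Cfsg.Agent.H520.FC.Fin0
import Cfsg.Agent.H930.FC.Spin

/-!
# S2464, `F₄(q)`: `OB3` (helper520)
-/

set_option autoImplicit false
set_option linter.unusedSectionVars false

namespace Cfsg.Agent.H520.FC

open Subgroup CoxeterSystem Cfsg.Agent.ChevalleyStructure.CoxeterGeom Cfsg.Agent.Tits.Core
  Cfsg.Agent.Tits.Exchange Cfsg.Agent.Nodes.Reps Cfsg.Agent.Nodes.BNOf Cfsg.Agent.Nodes.StabComb
  Cfsg.Agent.Nodes.Bruhat Cfsg.Agent.Nodes.OppDec Cfsg.Agent.Nodes.LeviDec Cfsg.Agent.Nodes.NormX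
  Cfsg.Agent.Nodes.Coroot Cfsg.Agent.Nodes.RGDChev Cfsg.Agent.KFacts.RgdPar Cfsg.Agent.KFacts.RgdTI
  Cfsg.Agent.KFacts.RgdCent Cfsg.Agent.KFacts.RgdChevCoord Cfsg.Agent.Nodes.ChevCls
  Cfsg.Agent.OddHalf.NI.ModelChev Cfsg.Agent.H225.PPow Cfsg.Agent.Tits.Roots
open Cfsg.Lie Cfsg.Agent.ChevalleyStructure Cfsg.Agent.ChevalleyStructure.Elts
  Cfsg.Agent.ChevalleyStructure.RootVec Cfsg.Agent.ChevalleyStructure.NPerm
  Cfsg.Agent.ChevalleyStructure.CoxeterGeomTypes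
open Cfsg.Agent.H701.F43.Cent (hF cF)

universe u

variable {K : Type u} [Field K]

/-- **`OB3`** -/
theorem ob3 [Finite K] (h2 : (2 : K) ≠ 0) : OB3 K := by
  intro u hu hl
  by_cases h : u ∈ RGD.Sup (XX chevF4 4 K)
      {x | x ∈ NotJ cF hF.isCartan {k | k ≠ 0} ∧ 2 ≤ x 0}
  · exact Cfsg.Agent.H446.FC.ob3_v7 h2 h hl
  · have h1 := Cfsg.Agent.H930.FC.spin hu h
    have h3 : (Nat.card K - 1) ^ 2 * Nat.card K ^ 5 ≤ (Nat.card K - 1) * Nat.card K ^ 6 := by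
      calc (Nat.card K - 1) ^ 2 * Nat.card K ^ 5 = (Nat.card K - 1) * ((Nat.card K - 1) * Nat.card K ^ 5) := by ring
        _ ≤ (Nat.card K - 1) * (Nat.card K * Nat.card K ^ 5) :=
            Nat.mul_le_mul_left _ (Nat.mul_le_mul_right _ (Nat.sub_le _ _))
        _ = (Nat.card K - 1) * Nat.card K ^ 6 := by ring
    calc (Nat.card K - 1) ^ 2 * Nat.card K ^ 5 ≤ (Nat.card K - 1) * Nat.card K ^ 6 := h3
      _ ≤ Nat.card ↥(cls (PK K {k | k ≠ 0}) u) := h1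
      _ ≤ 2 * Nat.card ↥(cls (PK K {k | k ≠ 0}) u) := Nat.le_mul_of_pos_left _ (by norm_num)

/-- the bound, from the mixed elements -/
theorem cb_of3 {p : ℕ} [Fact p.Prime] [CharP K p] (hq : Nat.card K = 5 ∨ Nat.card K = 7 ∨ Nat.card K = 17)
    {c : ℕ} (hc : c = 2 ∨ c = 10 ∧ Nat.card K = 17)
    (hM : ∀ u s : ↥(chevF4.group K), u * s = s * u → u ≠ 1 → u ∈ XT K → s ≠ 1 → (orderOf s).Coprime p →
      10 * Nat.card ↥(Subgroup.centralizer ({u * s} : Set ↥(chevF4.group K))) < d2 (Nat.card K) ^ 2)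
    {g : ↥(chevF4.group K)} (hg : p ∣ orderOf g) (hl : ¬ Lng g) :
    c * Nat.card ↥(Subgroup.centralizer ({g} : Set ↥(chevF4.group K))) < d2 (Nat.card K) ^ 2 := by
  have hfin : Finite K := Nat.finite_of_card_ne_zero (by omega)
  exact cb_of2 hq (ob3 (two_ne hq)) hc hM hg hl

end Cfsg.Agent.H520.FC
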